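import Groth.Agent.BertiniAff.Quot
import Mathlib.RingTheory.Smooth.Field
import Mathlib.RingTheory.Kaehler.Polynomial
import Mathlib.FieldTheory.IsAlgClosed.Basic

/-! Generic smoothness of the members of a linear system, on an affine chart. -/

open TensorProduct KaehlerDifferential

universe u

namespace Groth.Agent.BertiniSec

variable {k : Type u} [Field k] {B : Type u} [CommRing B] [Algebra k B]

variable (k) in
/-- The differential of `h` does not vanish on the zero locus of `h`. -/
def Good (h : B) : Prop := ∃ φ : Ω[B⁄k] →ₗ[B] B, φ (D k B h) - 1 ∈ Ideal.span {h}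

theorem good_of_forall {h : B} (H : ∀ v : Ideal B, v.IsPrime → h ∈ v → ∃ φ : Ω[B⁄k] →ₗ[B] B, φ (D k B h) ∉ v) :
    Good k h := by
  let J : Ideal B := Ideal.span {h} ⊔ LinearMap.range (LinearMap.applyₗ (R := B) (D k B h) : (Ω[B⁄k] →ₗ[B] B) →ₗ[B] B)
  have hJ : J = ⊤ := by
    by_contra hJ
    obtain ⟨v, hv, hle⟩ := Ideal.exists_le_maximal J hJ
    obtain ⟨φ, hφ⟩ := H v hv.isPrime (hle (Submodule.mem_sup_left (Ideal.mem_span_singleton_self h)))
    exact hφ (hle (Submodule.mem_sup_right ⟨φ, rfl⟩))
  obtain ⟨y, hy, z, ⟨φ, rfl⟩, hyz⟩ := Submodule.mem_sup.1 (show (1 : B) ∈ J from hJ ▸ Submodule.mem_top)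
  refine ⟨φ, ?_⟩
  rw [show φ (D k B h) - 1 = -y by rw [← hyz]; simp]
  exact neg_mem hy

theorem formallySmooth_quotient {h : B} (hg : Good k h) [Algebra.FormallySmooth k B] :
    Algebra.FormallySmooth k (B ⧸ Ideal.span {h}) := by
  obtain ⟨φ, hφ⟩ := hg
  obtain ⟨w, hw⟩ := Ideal.mem_span_singleton'.1 hφ
  have hs : Function.Surjective (algebraMap B (B ⧸ Ideal.span {h})) := Ideal.Quotient.mk_surjective
  let I := RingHom.ker (algebraMap B (B ⧸ Ideal.span {h}))
  have hI : h ∈ I := Ideal.Quotient.eq_zero_iff_mem.2 (Ideal.mem_span_singleton_self h)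
  let hb : I.Cotangent := I.toCotangent ⟨h, hI⟩
  have hhb : ∀ b ∈ I, b • hb = 0 := fun b hb' => by
    rw [← map_smul, Ideal.toCotangent_eq_zero, pow_two]
    exact Ideal.mul_mem_mul hb' hI
  let μ : (B ⧸ Ideal.span {h}) →ₗ[B] I.Cotangent :=
    Submodule.liftQ (Ideal.span {h}) (LinearMap.toSpanSingleton B _ hb) fun b hb' => by
      rw [LinearMap.mem_ker, LinearMap.toSpanSingleton_apply]
      exact hhb b (Ideal.Quotient.eq_zero_iff_mem.2 hb')
  let l : (B ⧸ Ideal.span {h}) ⊗[B] Ω[B⁄k] →ₗ[B] I.Cotangent :=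
    μ ∘ₗ (TensorProduct.rid B (B ⧸ Ideal.span {h})).toLinearMap ∘ₗ φ.lTensor _
  refine (Algebra.FormallySmooth.iff_split_injection (P := B) hs).2 ⟨l, ?_⟩
  refine LinearMap.ext fun z => ?_
  obtain ⟨⟨z, hz⟩, rfl⟩ := Ideal.toCotangent_surjective _ z
  rw [LinearMap.comp_apply, kerCotangentToTensor_toCotangent]
  have hz' := hz
  rw [Ideal.Quotient.algebraMap_eq, Ideal.mk_ker, Ideal.mem_span_singleton'] at hz'
  obtain ⟨b, rfl⟩ := hz'
  show μ (φ (D k B (b * h)) • (1 : B ⧸ Ideal.span {h})) = I.toCotangent ⟨b * h, hz⟩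
  rw [map_smul, Derivation.leibniz, map_add, map_smul, map_smul, smul_eq_mul, smul_eq_mul,
    show φ (D k B h) = w * h + 1 by rw [hw]; ring, add_smul, mul_comm h, mul_smul _ h,
    show μ 1 = (1 : B) • hb from rfl, one_smul, hhb h hI, smul_zero, add_zero, mul_add, mul_one, add_smul,
    ← mul_assoc, mul_smul _ h, hhb h hI, smul_zero, zero_add, ← map_smul]
  rfl

theorem smooth_quotient {h : B} (hg : Good k h) [Algebra.Smooth k B] :
    Algebra.Smooth k (B ⧸ Ideal.span {h}) :=
  haveI := formallySmooth_quotient hg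
  ⟨inferInstance, Algebra.FinitePresentation.quotient ⟨{h}, by simp⟩⟩

theorem derivation_mem {P : Ideal B} (φ : Ω[B⁄k] →ₗ[B] B) {δ : B} (hδ : δ ∈ P ^ 2) : φ (D k B δ) ∈ P := by
  rw [pow_two] at hδ
  refine Submodule.mul_induction_on hδ (fun x hx y hy => ?_) fun x y hx hy => ?_
  · rw [Derivation.leibniz, map_add, map_smul, map_smul]
    exact add_mem (P.mul_mem_right _ hx) (P.mul_mem_right _ hy)
  · rw [map_add, map_add]
    exact add_mem hx hy

theorem exists_scalar [IsAlgClosed k] [Algebra.FiniteType k B] (P : Ideal B) [P.IsMaximal] (b : B) :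
    ∃ c : k, b - algebraMap k B c ∈ P := by
  letI := Ideal.Quotient.field P
  haveI : Module.Finite k (B ⧸ P) := finite_of_finite_type_of_isJacobsonRing k (B ⧸ P)
  haveI : Algebra.IsIntegral k (B ⧸ P) := Algebra.IsIntegral.of_finite k (B ⧸ P)
  obtain ⟨c, hc⟩ := (IsAlgClosed.algebraMap_bijective_of_isIntegral (k := k) (K := B ⧸ P)).2 (Ideal.Quotient.mk P b)
  exact ⟨c, Ideal.Quotient.eq.1 hc.symm⟩

/-- Every differential agrees modulo `P` with an exact one. -/
theorem exists_exact [IsAlgClosed k] [Algebra.FiniteType k B] (P : Ideal B) [P.IsMaximal] (ω : Ω[B⁄k]) :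
    ∃ b ∈ P, ∀ φ : Ω[B⁄k] →ₗ[B] B, φ ω - φ (D k B b) ∈ P := by
  have hω : ω ∈ Submodule.span B (Set.range (D k B)) := by rw [span_range_derivation]; trivial
  induction hω using Submodule.span_induction with
  | mem _ h =>
    obtain ⟨b, rfl⟩ := h
    obtain ⟨c, hc⟩ := exists_scalar (k := k) P b
    exact ⟨_, hc, fun φ => by simp⟩
  | zero => exact ⟨0, P.zero_mem, fun φ => by simp⟩
  | add _ _ _ _ hx hy =>
    obtain ⟨b, hb, h1⟩ := hx
    obtain ⟨b', hb', h2⟩ := hy
    refine ⟨b + b', add_mem hb hb', fun φ => ?_⟩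
    simp only [map_add]
    convert add_mem (h1 φ) (h2 φ) using 1
    ring
  | smul r x _ hx =>
    obtain ⟨b, hb, h1⟩ := hx
    obtain ⟨c, hc⟩ := exists_scalar (k := k) P r
    refine ⟨algebraMap k B c * b, P.mul_mem_left _ hb, fun φ => ?_⟩
    rw [Derivation.leibniz, Derivation.map_algebraMap, smul_zero, add_zero, map_smul, map_smul, smul_eq_mul,
      smul_eq_mul, show r * φ x - algebraMap k B c * φ (D k B b) =
        (r - algebraMap k B c) * φ x + algebraMap k B c * (φ x - φ (D k B b)) by ring]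
    exact add_mem (P.mul_mem_right _ hc) (P.mul_mem_left _ (h1 φ))

/-- **Sections separating first order jets.** -/
theorem exists_poly_jets [IsAlgClosed k] [Algebra.IsStandardSmooth k B] {m : ℕ} (f : B) (a : Fin m → B)
    (hjet : ∀ P : Ideal B, P.IsMaximal → ∀ b : B, ∃ c : Fin m → k, (∑ i, algebraMap k B (c i) * a i) - b ∈ P ^ 2) :
    ∃ q : MvPolynomial (Fin m) k, q ≠ 0 ∧ ∀ c : Fin m → k, MvPolynomial.eval c q ≠ 0 →
      Good k (f + ∑ i, algebraMap k B (c i) * a i) := by
  classical
  rcases subsingleton_or_nontrivial B with hB | hB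
  · exact ⟨1, one_ne_zero, fun c _ => good_of_forall fun v hv _ => absurd (Subsingleton.elim v ⊤) hv.ne_top⟩
  obtain ⟨ι, σ', _, _, ⟨Q⟩⟩ := ‹Algebra.IsStandardSmooth k B›.out
  haveI := Q.isStandardSmoothOfRelativeDimension rfl
  set r := Q.dimension with hr
  haveI : Algebra.FiniteType k B := inferInstance
  let bas : Module.Basis (Fin r) B Ω[B⁄k] := Module.finBasisOfFinrankEq B _ (BertiniAff.finrank_kaehler r)
  let co : Option (Fin m) → B := fun i => i.elim f a
  let σ := ULift.{u} (Option (Fin r))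
  let τ := ULift.{u} (Option (Fin m))
  let M : Matrix σ τ B := fun j i => j.down.elim (co i.down) fun l => bas.coord l (D k B (co i.down))
  let z : (τ → k) → B := fun x => ∑ i, algebraMap k B (x i) * co i.down
  have hMz : ∀ (x : τ → k) (j : σ), M.mulVec (fun i => algebraMap k B (x i)) j =
      j.down.elim (z x) fun l => bas.coord l (D k B (z x)) := by
    rintro x ⟨_ | l⟩
    · simp [Matrix.mulVec, dotProduct, M, z, mul_comm]
    · simp [Matrix.mulVec, dotProduct, M, z, map_sum, Derivation.leibniz, Algebra.smul_def, mul_comm]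
  have hmod : ∀ P : Ideal B, P.IsMaximal → ∀ y : σ → B, ∃ x : τ → B, ∀ j, M.mulVec x j - y j ∈ P := by
    intro P hP y
    obtain ⟨b', hb', hbφ⟩ := exists_exact (k := k) P (∑ l, y ⟨some l⟩ • bas l)
    obtain ⟨c₀, hc₀⟩ := exists_scalar (k := k) P (y ⟨none⟩)
    obtain ⟨c, hc⟩ := hjet P hP (b' + algebraMap k B c₀)
    let x : τ → k := fun i => i.down.elim 0 c
    have hz : z x = ∑ i, algebraMap k B (c i) * a i := by
      simp only [z]
      rw [← Equiv.ulift.symm.sum_comp, Fintype.sum_option]
      simp [x, co]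
    rw [← hz] at hc
    refine ⟨fun i => algebraMap k B (x i), ?_⟩
    rintro ⟨_ | l⟩
    · rw [hMz]
      show z x - y ⟨none⟩ ∈ P
      have := add_mem (add_mem (Ideal.pow_le_self two_ne_zero hc) hb') (neg_mem hc₀)
      convert this using 1
      ring
    · rw [hMz]
      show bas.coord l (D k B (z x)) - y ⟨some l⟩ ∈ P
      have h1 := derivation_mem (bas.coord l) hc
      have h2 := hbφ (bas.coord l)
      have h3 : bas.coord l (∑ l', y ⟨some l'⟩ • bas l') = y ⟨some l⟩ := by simp [Finsupp.single_apply]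
      rw [h3] at h2
      simp only [map_sub, map_add, Derivation.map_algebraMap, add_zero] at h1
      convert sub_mem h1 h2 using 1
      ring
  have hsurj : Function.Surjective M.mulVec := by
    rw [← Matrix.coe_mulVecLin, ← LinearMap.range_eq_top]
    by_contra hne
    obtain ⟨N, hN, hle⟩ := (eq_top_or_exists_le_coatom (LinearMap.range M.mulVecLin)).resolve_left hne
    haveI : IsSimpleModule B ((σ → B) ⧸ N) := isSimpleModule_iff_isCoatom.2 hN
    obtain ⟨P, hP, ⟨e⟩⟩ := isSimpleModule_iff_quot_maximal.1 ‹IsSimpleModule B ((σ → B) ⧸ N)›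
    refine hN.1 (eq_top_iff.2 fun y _ => ?_)
    obtain ⟨x, hx⟩ := hmod P hP y
    have hsub : y - M.mulVec x ∈ N := by
      rw [← (Finset.univ_sum_single (y - M.mulVec x))]
      refine sum_mem fun j _ => ?_
      rw [show Pi.single j ((y - M.mulVec x) j) = ((y - M.mulVec x) j) • (Pi.single j (1 : B) : σ → B) by simp [← Pi.single_smul]]
      refine (Submodule.Quotient.mk_eq_zero N).1 (e.injective ?_)
      rw [Submodule.Quotient.mk_smul, map_smul, map_zero]
      obtain ⟨w, hw⟩ := Ideal.Quotient.mk_surjective (e (Submodule.Quotient.mk (Pi.single j (1 : B))))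
      rw [← hw]
      refine Ideal.Quotient.eq_zero_iff_mem.2 (P.mul_mem_right _ ?_)
      rw [Pi.sub_apply, ← neg_sub]
      exact neg_mem (hx j)
    simpa using add_mem hsub (hle ⟨x, rfl⟩)
  obtain ⟨N, hN⟩ := Matrix.mulVec_surjective_iff_exists_right_inverse.1 hsurj
  obtain ⟨g, hg0, hg⟩ := BertiniAff.exists_ne_zero_eval (k := k) r (SmoothDim.ringKrullDim_eq k B r).le σ τ
    (by simp [σ]) M N hN
  haveI : Infinite k := inferInstance
  obtain ⟨a₀, ha₀⟩ : ∃ a₀ : τ → k, MvPolynomial.eval a₀ (MvPolynomial.X ⟨none⟩ * g) ≠ 0 := by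
    by_contra! hall
    exact mul_ne_zero (MvPolynomial.X_ne_zero _) hg0 (MvPolynomial.funext fun x => by rw [hall x, map_zero])
  rw [map_mul, MvPolynomial.eval_X, mul_ne_zero_iff] at ha₀
  set t := a₀ ⟨none⟩
  let θ : τ → MvPolynomial (Fin m) k := fun i => i.down.elim (MvPolynomial.C t) fun j => MvPolynomial.C t * MvPolynomial.X j
  have hθ : ∀ c, MvPolynomial.eval c (MvPolynomial.bind₁ θ g) =
      MvPolynomial.eval (fun i : τ => i.down.elim t fun j => t * c j) g := fun c => by
    show MvPolynomial.eval₂Hom (RingHom.id k) c (MvPolynomial.bind₁ θ g) = _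
    rw [MvPolynomial.eval₂Hom_bind₁]
    refine congrArg (fun v => MvPolynomial.eval v g) (_root_.funext fun i => ?_)
    rcases i with ⟨_ | j⟩ <;> simp [θ]
  refine ⟨MvPolynomial.bind₁ θ g, fun h0 => ha₀.2 ?_, fun c hc => good_of_forall fun v hv hmem => ?_⟩
  · have := hθ fun j => t⁻¹ * a₀ ⟨some j⟩
    rw [h0, map_zero] at this
    refine Eq.trans ?_ this.symm
    refine congrArg (fun v => MvPolynomial.eval v g) (_root_.funext fun i => ?_)
    rcases i with ⟨_ | j⟩
    · rfl
    · simp [mul_inv_cancel_left₀ ha₀.1]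
  by_contra! hall
  refine hc ?_
  rw [hθ]
  let x : τ → k := fun i => i.down.elim t fun j => t * c j
  refine hg x v.ResidueField (IsScalarTower.toAlgHom k B _) (_root_.funext fun j => ?_)
  have hz : z x = algebraMap k B t * (f + ∑ i, algebraMap k B (c i) * a i) := by
    simp only [z]
    rw [← Equiv.ulift.symm.sum_comp, Fintype.sum_option, mul_add, Finset.mul_sum]
    simp [x, co, mul_assoc]
  have hvec : M.mulVec (fun i => algebraMap k B (x i)) j ∈ v := by
    rw [hMz, hz]
    rcases j with ⟨_ | l⟩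
    · exact v.mul_mem_left _ hmem
    · show bas.coord l _ ∈ v
      rw [Derivation.leibniz, Derivation.map_algebraMap, smul_zero, add_zero, map_smul]
      exact v.mul_mem_left _ (hall (bas.coord l))
  have h2 := RingHom.map_mulVec (IsScalarTower.toAlgHom k B v.ResidueField).toRingHom M
    (fun i => algebraMap k B (x i)) j
  rw [show (IsScalarTower.toAlgHom k B v.ResidueField).toRingHom _ = 0 from
    Ideal.algebraMap_residueField_eq_zero.2 hvec] at h2
  refine Eq.trans ?_ h2.symm
  refine congrArg (fun w => Matrix.mulVec (M.map (IsScalarTower.toAlgHom k B v.ResidueField)) w j) (_root_.funext fun i => ?_)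
  exact ((IsScalarTower.toAlgHom k B v.ResidueField).commutes _).symm

/-- Algebraically independent coefficients satisfying the equations of the critical locus. -/
theorem algebraMap_eq_zero_of_indep [CharZero k] {L : Type u} [Field L] [Algebra k L] [Algebra.EssFiniteType k L]
    [Algebra B L] [IsScalarTower k B L] {m : ℕ} (x : Fin m → L) (hx : AlgebraicIndependent k x) (a : Fin m → B)
    {ι : Type u} [Fintype ι] (bas : Module.Basis ι B Ω[B⁄k]) (hG : ∑ i, x i * algebraMap B L (a i) = 0)
    (hF : ∀ l, ∑ i, x i * algebraMap B L (bas.repr (D k B (a i)) l) = 0) (i : Fin m) :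
    algebraMap B L (a i) = 0 := by
  classical
  let R := MvPolynomial (Fin m) k
  letI : Algebra R L := (MvPolynomial.aeval x).toRingHom.toAlgebra
  haveI : IsScalarTower k R L := IsScalarTower.of_algebraMap_eq fun c => (AlgHom.commutes (MvPolynomial.aeval x) c).symm
  let K := FractionRing R
  letI : Algebra K L := (IsFractionRing.lift (g := ((MvPolynomial.aeval (R := k) x).toRingHom : R →+* L))
    (show Function.Injective (MvPolynomial.aeval (R := k) x) from hx)).toAlgebra
  haveI : IsScalarTower R K L :=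
    IsScalarTower.of_algebraMap_eq fun c => (IsFractionRing.lift_algebraMap (K := K) (L := L)
      (g := ((MvPolynomial.aeval (R := k) x).toRingHom : R →+* L)) (show Function.Injective (MvPolynomial.aeval (R := k) x) from hx) c).symm
  haveI : IsScalarTower k K L := IsScalarTower.of_algebraMap_eq fun c => by
    rw [IsScalarTower.algebraMap_apply k R K, ← IsScalarTower.algebraMap_apply R K L, ← IsScalarTower.algebraMap_apply]
  haveI : CharZero K := charZero_of_injective_algebraMap (algebraMap k K).injective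
  haveI : Algebra.EssFiniteType K L := Algebra.EssFiniteType.of_comp k K L
  haveI : Algebra.FormallySmooth R K := .of_isLocalization (nonZeroDivisors R)
  haveI : Algebra.FormallySmooth K L := inferInstance
  haveI : Algebra.FormallySmooth R L := .comp R K L
  have hinj' : Function.Injective (mapBaseChange k R L) := by
    rw [← LinearMap.ker_eq_bot, LinearMap.exact_iff.1 (Algebra.H1Cotangent.exact_δ_mapBaseChange k R L),
      LinearMap.range_eq_bot]
    exact LinearMap.ext fun z => by rw [Subsingleton.elim z 0, map_zero, map_zero]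
  obtain ⟨r, hr⟩ := LinearMap.exists_leftInverse_of_injective _ (LinearMap.ker_eq_bot.2 hinj')
  let Φ : Ω[L⁄k] →ₗ[L] L := (TensorProduct.AlgebraTensorModule.rid R L L).toLinearMap ∘ₗ
      ((KaehlerDifferential.mvPolynomialBasis k (Fin m)).coord i).baseChange L ∘ₗ r
  let δ : Derivation k L L := Φ.compDer (D k L)
  have hδX : ∀ i', δ (x i') = if i = i' then 1 else 0 := fun i' => by
    have hxi : x i' = algebraMap R L (MvPolynomial.X i') := (MvPolynomial.aeval_X x i').symm
    have e : r (D k L (x i')) = (1 : L) ⊗ₜ[R] D k R (MvPolynomial.X i') := by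
      have h := LinearMap.congr_fun hr ((1 : L) ⊗ₜ[R] D k R (MvPolynomial.X i'))
      rw [LinearMap.comp_apply, mapBaseChange_tmul, one_smul, map_D, ← hxi] at h
      exact h
    show (TensorProduct.AlgebraTensorModule.rid R L L) ((LinearMap.baseChange L _) (r (D k L (x i')))) = _
    rw [e, LinearMap.baseChange_tmul, ← KaehlerDifferential.mvPolynomialBasis_apply, Module.Basis.coord_apply,
      Module.Basis.repr_self, Finsupp.single_apply, TensorProduct.AlgebraTensorModule.rid_tmul]
    rcases eq_or_ne i i' with rfl | hne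
    · simp
    · simp [hne, hne.symm]
  let ψ : Ω[B⁄k] →ₗ[B] L := (Φ.restrictScalars B) ∘ₗ KaehlerDifferential.map k k B L
  have hψ : ∀ b, δ (algebraMap B L b) = ψ (D k B b) := fun b => by
    show Φ (D k L (algebraMap B L b)) = Φ (KaehlerDifferential.map k k B L (D k B b))
    rw [map_D]
  have h1 : ∑ i', x i' * δ (algebraMap B L (a i')) = 0 := by
    simp only [hψ]
    have : ∀ i', ψ (D k B (a i')) = ∑ l, algebraMap B L (bas.repr (D k B (a i')) l) * ψ (bas l) := fun i' => by
      refine (congrArg ψ (bas.sum_repr (D k B (a i'))).symm).trans ?_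
      rw [map_sum]
      exact Finset.sum_congr rfl fun l _ => by rw [map_smul, Algebra.smul_def]
    simp only [this, Finset.mul_sum, ← mul_assoc]
    rw [Finset.sum_comm]
    refine Finset.sum_eq_zero fun l _ => ?_
    rw [← Finset.sum_mul, hF l, zero_mul]
  have h2 := congrArg δ hG
  rw [map_sum, map_zero] at h2
  simp only [Derivation.leibniz, smul_eq_mul, Finset.sum_add_distrib, h1, zero_add, hδX, mul_ite,
    mul_one, mul_zero, Finset.sum_ite_eq, Finset.mem_univ, if_true] at h2
  exact h2

/-- **Generating sections in characteristic zero.** -/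
theorem exists_poly_gen [CharZero k] [Algebra.IsStandardSmooth k B] {m : ℕ} (a : Fin m → B)
    (hgen : Ideal.span (Set.range a) = ⊤) :
    ∃ q : MvPolynomial (Fin m) k, q ≠ 0 ∧ ∀ c : Fin m → k, MvPolynomial.eval c q ≠ 0 →
      Good k (∑ i, algebraMap k B (c i) * a i) := by
  classical
  let bas := Module.Free.chooseBasis B Ω[B⁄k]
  let G : MvPolynomial (Fin m) B := ∑ j, MvPolynomial.X j * MvPolynomial.C (a j)
  let F : Module.Free.ChooseBasisIndex B Ω[B⁄k] → MvPolynomial (Fin m) B := fun l =>
    ∑ j, MvPolynomial.X j * MvPolynomial.C (bas.repr (D k B (a j)) l)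
  let J : Ideal (MvPolynomial (Fin m) B) := Ideal.span (insert G (Set.range F))
  let ρ : MvPolynomial (Fin m) k →ₐ[k] MvPolynomial (Fin m) B ⧸ J :=
    (Ideal.Quotient.mkₐ k J).comp (MvPolynomial.aeval MvPolynomial.X)
  suffices hρ : ¬ Function.Injective ρ by
    rw [injective_iff_map_eq_zero] at hρ
    push Not at hρ
    obtain ⟨q, hq, hq0⟩ := hρ
    refine ⟨q, hq0, fun c hc => good_of_forall fun v hv hmem => ?_⟩
    by_contra! hall
    refine hc ?_
    let ev : MvPolynomial (Fin m) B →+* v.ResidueField :=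
      MvPolynomial.eval₂Hom (algebraMap B v.ResidueField) fun j => algebraMap k v.ResidueField (c j)
    have hJ : J ≤ RingHom.ker ev := by
      rw [Ideal.span_le]
      rintro _ (rfl | ⟨l, rfl⟩)
      · rw [SetLike.mem_coe, RingHom.mem_ker]
        refine Eq.trans ?_ (Ideal.algebraMap_residueField_eq_zero.2 hmem)
        simp [G, ev, map_sum, map_mul, ← IsScalarTower.algebraMap_apply]
      · rw [SetLike.mem_coe, RingHom.mem_ker]
        refine Eq.trans ?_ (Ideal.algebraMap_residueField_eq_zero.2 (hall (bas.coord l)))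
        simp [F, ev, map_sum, map_mul, Derivation.leibniz, Algebra.smul_def, ← IsScalarTower.algebraMap_apply]
    have h1 : ev (MvPolynomial.aeval MvPolynomial.X q) = 0 := hJ (Ideal.Quotient.eq_zero_iff_mem.1 hq)
    have h2 : ev (MvPolynomial.aeval MvPolynomial.X q) = algebraMap k v.ResidueField (MvPolynomial.eval c q) := by
      clear hq h1 hq0 hc
      induction q using MvPolynomial.induction_on with
      | C c' => simp [ev, ← IsScalarTower.algebraMap_apply]
      | add p q hp hq => simp only [map_add, hp, hq]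
      | mul_X p i hp => simp only [map_mul, hp, MvPolynomial.aeval_X, MvPolynomial.eval_X]; simp [ev]
    rw [h1] at h2
    exact (map_eq_zero (algebraMap k v.ResidueField)).1 h2.symm
  intro hinj
  have hbot : (⊥ : Ideal (MvPolynomial (Fin m) k)) ∈ minimalPrimes (MvPolynomial (Fin m) k) := by
    rw [IsDomain.minimalPrimes_eq_singleton_bot]; rfl
  obtain ⟨P, hP, hPc⟩ := Ideal.exists_comap_eq_of_mem_minimalPrimes_of_injective (f := ρ.toRingHom) hinj _ hbot
  let L := FractionRing ((MvPolynomial (Fin m) B ⧸ J) ⧸ P)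
  let π : MvPolynomial (Fin m) B →ₐ[k] L :=
    ((IsScalarTower.toAlgHom k ((MvPolynomial (Fin m) B ⧸ J) ⧸ P) L).comp (Ideal.Quotient.mkₐ k P)).comp
      (Ideal.Quotient.mkₐ k J)
  haveI : Algebra.FiniteType k (MvPolynomial (Fin m) B) := Algebra.FiniteType.trans (S := B) inferInstance inferInstance
  haveI : Algebra.FiniteType k ((MvPolynomial (Fin m) B ⧸ J) ⧸ P) :=
    Algebra.FiniteType.of_surjective ((Ideal.Quotient.mkₐ k P).comp (Ideal.Quotient.mkₐ k J))
      (Ideal.Quotient.mk_surjective.comp Ideal.Quotient.mk_surjective)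
  haveI : Algebra.EssFiniteType ((MvPolynomial (Fin m) B ⧸ J) ⧸ P) L :=
    Algebra.EssFiniteType.of_isLocalization L (nonZeroDivisors _)
  haveI : Algebra.EssFiniteType k L := Algebra.EssFiniteType.comp k ((MvPolynomial (Fin m) B ⧸ J) ⧸ P) L
  have hj : Function.Injective (π.comp (MvPolynomial.aeval (R := k) MvPolynomial.X)) := by
    refine (IsFractionRing.injective ((MvPolynomial (Fin m) B ⧸ J) ⧸ P) L).comp ?_
    refine (injective_iff_map_eq_zero ((Ideal.Quotient.mkₐ k P).comp ρ)).2 fun x hx => ?_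
    have : x ∈ P.comap ρ.toRingHom := Ideal.mem_comap.2 (Ideal.Quotient.eq_zero_iff_mem.1 hx)
    rwa [hPc] at this
  let x : Fin m → L := fun i => π (MvPolynomial.X i)
  have hx : AlgebraicIndependent k x := by
    show Function.Injective (MvPolynomial.aeval x)
    rwa [show MvPolynomial.aeval x = π.comp (MvPolynomial.aeval (R := k) MvPolynomial.X) from
      MvPolynomial.algHom_ext fun i => by simp [x]]
  have hπC : ∀ b : B, π (MvPolynomial.C b) = algebraMap B L b := fun b => rfl
  have hkill : ∀ p ∈ J, π p = 0 := fun p hp => by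
    simp [π, Ideal.Quotient.eq_zero_iff_mem.2 hp]
  have hG : ∑ i, x i * algebraMap B L (a i) = 0 := by
    have := hkill G (Ideal.subset_span (Set.mem_insert _ _))
    simpa [G, hπC, x] using this
  have hF : ∀ l, ∑ i, x i * algebraMap B L (bas.repr (D k B (a i)) l) = 0 := fun l => by
    have := hkill (F l) (Ideal.subset_span (Set.mem_insert_of_mem _ ⟨l, rfl⟩))
    simpa [F, hπC, x] using this
  have hall : Ideal.span (Set.range a) ≤ RingHom.ker (algebraMap B L) :=
    Ideal.span_le.2 (by rintro _ ⟨i, rfl⟩; exact algebraMap_eq_zero_of_indep x hx a bas hG hF i)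
  exact one_ne_zero ((map_one (algebraMap B L)).symm.trans (hall (hgen ▸ Submodule.mem_top)))

end Groth.Agent.BertiniSec
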