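import Groth.Agent.BertiniSec.Alg
import Groth.Agent.ZeroSchX.Basic
import Groth.Agent.InvX.Tensor
import Groth.Prelude.Def_Formal
import Mathlib.AlgebraicGeometry.Morphisms.Smooth
import Mathlib.AlgebraicGeometry.Morphisms.FiniteType

/-! Generic smoothness of zero schemes from charts. -/

set_option linter.style.haveILetI false
set_option backward.isDefEq.respectTransparency false
set_option backward.isDefEq.respectTransparency.types false

universe u

open CategoryTheory AlgebraicGeometry TopologicalSpace Opposite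

namespace Groth.Agent.BertiniSec

open Groth.Agent

variable (k : Type u) [Field k] {Y : Scheme.{u}} [Y.Over (Spec (CommRingCat.of k))]
  {L : Y.Modules} {U : Y.Opens}

/-- The structure map of the sections over an open. -/
noncomputable def secHom (U : Y.Opens) : k →+* Γ(Y, U) :=
  ((Y ↘ Spec (CommRingCat.of k)).appLE ⊤ U le_top).hom.comp (Scheme.ΓSpecIso (CommRingCat.of k)).inv.hom

theorem isStandardSmooth_secHom [Smooth (Y ↘ Spec (CommRingCat.of k))] (x : Y) :
    ∃ U : Y.Opens, IsAffineOpen U ∧ x ∈ U ∧ (secHom k U).IsStandardSmooth := by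
  obtain ⟨W, _, V, hV, hx, e, h⟩ := Smooth.exists_isStandardSmooth (Y ↘ Spec (CommRingCat.of k)) x
  obtain rfl : W = ⊤ := top_le_iff.1 fun p _ =>
    Subsingleton.elim ((Y ↘ Spec (CommRingCat.of k)) x) p ▸ e hx
  refine ⟨V, hV, hx, ?_⟩
  exact RingHom.isStandardSmooth_respectsIso.2 _ (Scheme.ΓSpecIso (CommRingCat.of k)).symm.commRingCatIsoToRingEquiv h

theorem fromSpec_over (hU : IsAffineOpen U) :
    hU.fromSpec ≫ (Y ↘ Spec (CommRingCat.of k)) = Spec.map (CommRingCat.ofHom (secHom k U)) := by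
  rw [← IsAffineOpen.SpecMap_appLE_fromSpec (Y ↘ Spec (CommRingCat.of k)) (isAffineOpen_top _) hU le_top, IsAffineOpen.fromSpec_top,
    Scheme.isoSpec_Spec_inv, ← Spec.map_comp]
  rfl

theorem sv_add (s t : Coh.structureModule Y ⟶ L) : ZeroSchX.sv (s + t) U = ZeroSchX.sv s U + ZeroSchX.sv t U := rfl

theorem sv_sum {ι : Type*} (S : Finset ι) (s : ι → (Coh.structureModule Y ⟶ L)) :
    ZeroSchX.sv (∑ i ∈ S, s i) U = ∑ i ∈ S, ZeroSchX.sv (s i) U := by
  classical
  induction S using Finset.induction_on with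
  | empty => rfl
  | insert a S ha ih => rw [Finset.sum_insert ha, Finset.sum_insert ha, sv_add, ih]

theorem sv_smul (c : k) (s : Coh.structureModule Y ⟶ L) :
    ZeroSchX.sv (Formal.smulMod k (Coh.structureModule Y) c ≫ s) U = secHom k U c • ZeroSchX.sv s U := by
  exact map_smul (s.val.app (op U)).hom (show Y.ringCatSheaf.obj.obj (op U) from secHom k U c)
    (show (Coh.structureModule Y).val.obj (op U) from (1 : Y.ringCatSheaf.obj.obj (op U)))

theorem sv_comb {m : ℕ} (s : Fin m → (Coh.structureModule Y ⟶ L)) (c : Fin m → k) {e : Γ(L, U)}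
    (a : Fin m → Γ(Y, U)) (ha : ∀ i, ZeroSchX.sv (s i) U = a i • e) :
    ZeroSchX.sv (∑ i, Formal.smulMod k (Coh.structureModule Y) (c i) ≫ s i) U =
      (∑ i, secHom k U (c i) * a i) • e := by
  rw [sv_sum, Finset.sum_smul]
  exact Finset.sum_congr rfl fun i _ => by rw [sv_smul, ha, mul_smul]

theorem exists_coord_self {e : Γ(L, U)} (he : InvX.IsFrame e) (x : Γ(L, U)) : ∃ r : Γ(Y, U), x = r • e := by
  obtain ⟨r, hr⟩ := he.exists_coord le_rfl x
  exact ⟨r, hr.trans (by simp [AModX.res])⟩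

theorem exists_affine_frame [Smooth (Y ↘ Spec (CommRingCat.of k))] (hL : PicF.IsInvertible L) (x : Y) :
    ∃ U : Y.Opens, IsAffineOpen U ∧ x ∈ U ∧ (secHom k U).IsStandardSmooth ∧ ∃ e : Γ(L, U), InvX.IsFrame e := by
  obtain ⟨V, hxV, e, he⟩ := InvX.exists_frame hL x
  obtain ⟨U, hU, hxU, hs⟩ := isStandardSmooth_secHom k x
  obtain ⟨g, hg, hxg⟩ := hU.exists_basicOpen_le (V := V) ⟨x, hxV⟩ hxU
  refine ⟨Y.basicOpen g, hU.basicOpen g, hxg, ?_, _, he.res hg⟩
  letI := (secHom k U).toAlgebra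
  letI := (secHom k (Y.basicOpen g)).toAlgebra
  haveI := hU.isLocalization_basicOpen g
  haveI : IsScalarTower k Γ(Y, U) Γ(Y, Y.basicOpen g) := IsScalarTower.of_algebraMap_eq fun c => by
    show secHom k (Y.basicOpen g) c = Y.presheaf.map (homOfLE (Y.basicOpen_le g)).op (secHom k U c)
    rw [secHom, secHom, RingHom.comp_apply, RingHom.comp_apply, ← Scheme.Hom.appLE_map _ le_top (homOfLE (Y.basicOpen_le g)).op]
    rfl
  haveI : Algebra.IsStandardSmooth k Γ(Y, U) := hs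
  haveI := Algebra.IsStandardSmooth.localization_away (R := Γ(Y, U)) (S := Γ(Y, Y.basicOpen g)) g
  exact Algebra.IsStandardSmooth.trans k Γ(Y, U) Γ(Y, Y.basicOpen g)

/-- A member which is good on the charts of a cover has a smooth zero scheme. -/
theorem smooth_zeroScheme (hL : PicF.IsInvertible L) (t : Coh.structureModule Y ⟶ L)
    (h : ∀ x : Y, ∃ (U : Y.Opens) (_ : IsAffineOpen U) (_ : x ∈ U) (e : Γ(L, U)) (_ : InvX.IsFrame e) (c : Γ(Y, U)),
      ZeroSchX.sv t U = c • e ∧ (secHom k U).IsStandardSmooth ∧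
        letI := (secHom k U).toAlgebra; Good k c) :
    Smooth ((PicF2.zeroScheme L t).subschemeι ≫ (Y ↘ Spec (CommRingCat.of k))) := by
  choose U hU hxU e he c hc hs hg using h
  let I := PicF2.zeroScheme L t
  let W : I.subscheme → I.subscheme.Opens := fun z => (I.subschemeCover.f ⟨U (I.subschemeι z), hU _⟩).opensRange
  refine IsZariskiLocalAtSource.of_iSup_eq_top W (eq_top_iff.2 fun z _ => Opens.mem_iSup.2 ⟨z, ?_⟩) fun z => ?_
  · show z ∈ (I.subschemeCover.f _).opensRange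
    rw [Scheme.IdealSheafData.opensRange_subschemeCover_map]
    exact hxU _
  set V : Y.affineOpens := ⟨U (I.subschemeι z), hU _⟩
  rw [show (W z).ι = (I.subschemeCover.f V).isoOpensRange.inv ≫ I.subschemeCover.f V from
    (Iso.eq_inv_comp _).2 (Scheme.Hom.isoOpensRange_hom_ι _), Category.assoc,
    MorphismProperty.cancel_left_of_respectsIso (P := @Smooth),
    ← Category.assoc, Scheme.IdealSheafData.subschemeCover_map_subschemeι,
    Scheme.IdealSheafData.glueDataObjι_ι, Category.assoc, fromSpec_over, ← Spec.map_comp, ← CommRingCat.ofHom_comp,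
    HasRingHomProperty.Spec_iff (P := @Smooth), CommRingCat.hom_ofHom]
  have hI : I.ideal V = Ideal.span {c (I.subschemeι z)} :=
    (ZeroSchX.ideal_zeroScheme hL t V).trans (ZeroSchX.zeroIdealOn_eq_span t (he _) (hc _))
  letI := (secHom k V.1).toAlgebra
  haveI : Algebra.IsStandardSmooth k Γ(Y, V.1) := hs _
  haveI : Algebra.Smooth k Γ(Y, V.1) := inferInstance
  rw [hI]
  haveI := smooth_quotient (hg (I.subschemeι z))
  exact RingHom.smooth_algebraMap.2 ‹Algebra.Smooth k (Γ(Y, V.1) ⧸ Ideal.span {c (I.subschemeι z)})›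

variable [Smooth (Y ↘ Spec (CommRingCat.of k))] [QuasiCompact (Y ↘ Spec (CommRingCat.of k))]

/-- From a bad polynomial on every chart to a bad polynomial. -/
theorem exists_poly (hL : PicF.IsInvertible L) {m : ℕ} (s : Fin m → (Coh.structureModule Y ⟶ L))
    (f : Coh.structureModule Y ⟶ L)
    (hchart : ∀ (U : Y.Opens), IsAffineOpen U → ∀ e : Γ(L, U), InvX.IsFrame e → (secHom k U).IsStandardSmooth →
      ∀ (b : Γ(Y, U)) (a : Fin m → Γ(Y, U)), ZeroSchX.sv f U = b • e → (∀ i, ZeroSchX.sv (s i) U = a i • e) →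
        letI := (secHom k U).toAlgebra
        ∃ q : MvPolynomial (Fin m) k, q ≠ 0 ∧ ∀ c : Fin m → k, MvPolynomial.eval c q ≠ 0 →
          Good k (b + ∑ i, algebraMap k Γ(Y, U) (c i) * a i)) :
    ∃ q : MvPolynomial (Fin m) k, q ≠ 0 ∧ ∀ c : Fin m → k, MvPolynomial.eval c q ≠ 0 →
      Smooth ((PicF2.zeroScheme L (f + ∑ i, Formal.smulMod k (Coh.structureModule Y) (c i) ≫ s i)).subschemeι ≫
        (Y ↘ Spec (CommRingCat.of k))) := by
  haveI : CompactSpace Y := QuasiCompact.compactSpace_of_compactSpace (Y ↘ Spec (CommRingCat.of k))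
  choose U hU hxU hs e he using fun x : Y => exists_affine_frame k hL x
  choose b hb using fun x => exists_coord_self (he x) (ZeroSchX.sv f (U x))
  choose a ha using fun x i => exists_coord_self (he x) (ZeroSchX.sv (s i) (U x))
  choose q hq0 hq using fun x => hchart (U x) (hU x) (e x) (he x) (hs x) (b x) (a x) (hb x) (ha x)
  obtain ⟨T, hT⟩ := isCompact_univ.elim_finite_subcover (fun x : Y => (U x : Set Y)) (fun x => (U x).2)
    fun x _ => Set.mem_iUnion.2 ⟨x, hxU x⟩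
  refine ⟨∏ x ∈ T, q x, Finset.prod_ne_zero_iff.2 fun x _ => hq0 x, fun c hc => smooth_zeroScheme k hL _ fun x => ?_⟩
  rw [map_prod, Finset.prod_ne_zero_iff] at hc
  obtain ⟨y, hyT, hxy⟩ := Set.mem_iUnion₂.1 (hT (Set.mem_univ x))
  refine ⟨U y, hU y, hxy, e y, he y, b y + ∑ i, secHom k (U y) (c i) * a y i, ?_, hs y, hq y c (hc y hyT)⟩
  rw [sv_add, hb y, sv_comb k s c (a y) (ha y), add_smul]

omit [QuasiCompact (Y ↘ Spec (CommRingCat.of k))] in
/-- The jets at closed points in a chart. -/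
theorem jet_chart {m : ℕ} (s : Fin m → (Coh.structureModule Y ⟶ L))
    (hjet : ∀ p : Y, IsClosed ({p} : Set Y) → ∀ l : ↥(L.presheaf.stalk p), ∃ c : Fin m → k,
      (L.presheaf.germ ⊤ p trivial)
          (PicF2.secVal L (∑ i : Fin m, Formal.smulMod k (Coh.structureModule Y) (c i) ≫ s i) ⊤) - l ∈
        (IsLocalRing.maximalIdeal ↥(Y.presheaf.stalk p)) ^ 2 •
          (⊤ : Submodule ↥(Y.presheaf.stalk p) ↥(L.presheaf.stalk p)))
    (hU : IsAffineOpen U) {e : Γ(L, U)} (he : InvX.IsFrame e) (a : Fin m → Γ(Y, U))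
    (ha : ∀ i, ZeroSchX.sv (s i) U = a i • e) (P : Ideal Γ(Y, U)) (hP : P.IsMaximal) (b : Γ(Y, U)) :
    ∃ c : Fin m → k, (∑ i, secHom k U (c i) * a i) - b ∈ P ^ 2 := by
  haveI : LocallyOfFiniteType (Y ↘ Spec (CommRingCat.of k)) := inferInstance
  haveI : JacobsonSpace Y := LocallyOfFiniteType.jacobsonSpace (Y ↘ Spec (CommRingCat.of k))
  let p : Y := hU.fromSpec ⟨P, hP.isPrime⟩
  have hpU : p ∈ U := (Set.ext_iff.1 hU.range_fromSpec _).1 ⟨⟨P, hP.isPrime⟩, rfl⟩
  have hPp : hU.primeIdealOf ⟨p, hpU⟩ = ⟨P, hP.isPrime⟩ :=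
    hU.fromSpec.isOpenEmbedding.injective (hU.fromSpec_primeIdealOf ⟨p, hpU⟩)
  have hclosed : IsClosed ({p} : Set Y) := by
    have h0 : (⟨P, hP.isPrime⟩ : PrimeSpectrum Γ(Y, U)) ∈ closedPoints (PrimeSpectrum Γ(Y, U)) :=
      (PrimeSpectrum.isClosed_singleton_iff_isMaximal _).2 hP
    exact (hU.fromSpec.isOpenEmbedding.preimage_closedPoints.symm ▸ h0 :
      (⟨P, hP.isPrime⟩ : PrimeSpectrum Γ(Y, U)) ∈ hU.fromSpec ⁻¹' closedPoints Y)
  let ge : L.presheaf.stalk p := L.presheaf.germ U p hpU e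
  obtain ⟨c, hc⟩ := hjet p hclosed (Y.presheaf.germ U p hpU b • ge)
  refine ⟨c, ?_⟩
  set δ := (∑ i, secHom k U (c i) * a i) - b with hδ
  have hbij := he.germ_bijective hpU
  have hex : ∀ z ∈ (IsLocalRing.maximalIdeal ↥(Y.presheaf.stalk p)) ^ 2 •
      (⊤ : Submodule ↥(Y.presheaf.stalk p) ↥(L.presheaf.stalk p)),
      ∃ r ∈ (IsLocalRing.maximalIdeal ↥(Y.presheaf.stalk p)) ^ 2, z = r • ge := fun z hz => by
    refine Submodule.smul_induction_on hz (fun r hr n _ => ?_) fun x y ⟨r, hr, hx⟩ ⟨r', hr', hy⟩ =>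
      ⟨r + r', add_mem hr hr', by rw [hx, hy, add_smul]⟩
    obtain ⟨d, hd⟩ := hbij.2 n
    exact ⟨r * d, Ideal.mul_mem_right _ _ hr, by rw [← hd, mul_smul]⟩
  obtain ⟨r, hr, hrz⟩ := hex _ hc
  have hsv : L.presheaf.germ ⊤ p trivial
      (PicF2.secVal L (∑ i : Fin m, Formal.smulMod k (Coh.structureModule Y) (c i) ≫ s i) ⊤) =
      Y.presheaf.germ U p hpU (∑ i, secHom k U (c i) * a i) • ge := by
    rw [← InvX.germ_res' (le_top : U ≤ ⊤) hpU]
    show L.presheaf.germ U p hpU (L.presheaf.map (homOfLE le_top).op _) = _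
    rw [ZeroSchX.res_sv, sv_comb k s c a ha, QCoh.germ_smul']
  rw [hsv, ← sub_smul, ← map_sub, ← hδ] at hrz
  have hδm : Y.presheaf.germ U p hpU δ ∈ (IsLocalRing.maximalIdeal ↥(Y.presheaf.stalk p)) ^ 2 :=
    (hbij.1 hrz) ▸ hr
  letI : Algebra Γ(Y, U) (Y.presheaf.stalk p) := TopCat.Presheaf.algebra_section_stalk Y.presheaf ⟨p, hpU⟩
  haveI := hU.isLocalization_stalk ⟨p, hpU⟩
  rw [← IsLocalization.AtPrime.map_eq_maximalIdeal (hU.primeIdealOf ⟨p, hpU⟩).asIdeal (Y.presheaf.stalk p),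
    ← Ideal.map_pow, show Y.presheaf.germ U p hpU δ = algebraMap Γ(Y, U) (Y.presheaf.stalk p) δ from rfl,
    IsLocalization.algebraMap_mem_map_algebraMap_iff (hU.primeIdealOf ⟨p, hpU⟩).asIdeal.primeCompl] at hδm
  obtain ⟨w, hw, hwδ⟩ := hδm
  rw [hPp] at hw hwδ
  have hδP : δ ∈ P := (hP.isPrime.mem_or_mem (Ideal.pow_le_self two_ne_zero hwδ)).resolve_left hw
  obtain ⟨v, hv⟩ := hP.exists_inv hw
  obtain ⟨π, hπ, hπ'⟩ := hv
  have : δ = v * (w * δ) + π * δ := by linear_combination (-δ) * hπ'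
  rw [this]
  exact add_mem (Ideal.mul_mem_left _ _ hwδ) (pow_two P ▸ Ideal.mul_mem_mul hπ hδP)

end Groth.Agent.BertiniSec
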