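import Groth.Agent.BertiniSec.Alg
import Groth.Agent.BertiniAff.Chart
import Mathlib

/-!
# Bertini over an infinite field for systems separating first order jets
-/

set_option autoImplicit false
set_option linter.style.haveILetI false

open TensorProduct KaehlerDifferential MvPolynomial

universe u

namespace Groth.Agent.BertiniSec

open Groth.Agent

variable {k : Type u} [Field k] {B : Type u} [CommRing B] [Algebra k B]

/-- Members of a system whose values and differentials generate are good off a proper closed set. -/
theorem exists_poly_span [Algebra.IsStandardSmooth k B] {m : ℕ} (a : Fin m → B)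
    (hspan : Submodule.span B (Set.range fun i => (a i, D k B (a i))) = (⊤ : Submodule B (B × Ω[B⁄k]))) :
    ∃ q : MvPolynomial (Fin m) k, q ≠ 0 ∧ ∀ c : Fin m → k, MvPolynomial.eval c q ≠ 0 →
      Good k (∑ i, algebraMap k B (c i) * a i) := by
  classical
  rcases subsingleton_or_nontrivial B with hB | hB
  · exact ⟨1, one_ne_zero, fun c _ => good_of_forall fun v hv _ => absurd (Subsingleton.elim v ⊤) hv.ne_top⟩
  obtain ⟨ι, σ', _, _, ⟨Q⟩⟩ := ‹Algebra.IsStandardSmooth k B›.out
  haveI := Q.isStandardSmoothOfRelativeDimension rfl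
  set r := Q.dimension with hr
  haveI : Algebra.FiniteType k B := inferInstance
  let bas : Module.Basis (Fin r) B Ω[B⁄k] := Module.finBasisOfFinrankEq B _ (BertiniAff.finrank_kaehler r)
  let σ := ULift.{u} (Option (Fin r))
  let τ := ULift.{u} (Fin m)
  let M : Matrix σ τ B := fun j i => j.down.elim (a i.down) fun l => bas.coord l (D k B (a i.down))
  have hsurj : Function.Surjective M.mulVec := by
    intro y
    have hw : (y ⟨none⟩, ∑ l, y ⟨some l⟩ • bas l) ∈
        Submodule.span B (Set.range fun i => (a i, D k B (a i))) := hspan ▸ Submodule.mem_top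
    obtain ⟨c, hc⟩ := (Submodule.mem_span_range_iff_exists_fun B).1 hw
    refine ⟨fun i => c i.down, funext ?_⟩
    rintro ⟨_ | l⟩
    · have h := congrArg Prod.fst hc
      simp only [Prod.fst_sum, Prod.smul_mk, smul_eq_mul] at h
      rw [← h]
      simp only [Matrix.mulVec, dotProduct, M, Option.elim_none]
      rw [← Equiv.ulift.symm.sum_comp]
      exact Finset.sum_congr rfl fun i _ => mul_comm _ _
    · have h := congrArg (fun z => bas.coord l z.2) hc
      simp only [Prod.snd_sum, Prod.smul_mk, map_sum, map_smul, smul_eq_mul] at h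
      have h3 : ∑ l', y ⟨some l'⟩ * bas.coord l (bas l') = y ⟨some l⟩ := by simp [Finsupp.single_apply]
      rw [h3] at h
      rw [← h]
      simp only [Matrix.mulVec, dotProduct, M, Option.elim_some]
      rw [← Equiv.ulift.symm.sum_comp]
      exact Finset.sum_congr rfl fun i _ => mul_comm _ _
  obtain ⟨N, hN⟩ := Matrix.mulVec_surjective_iff_exists_right_inverse.1 hsurj
  obtain ⟨g, hg0, hg⟩ := BertiniAff.exists_ne_zero_eval (k := k) r (SmoothDim.ringKrullDim_eq k B r).le σ τ
    (by simp [σ]) M N hN
  refine ⟨MvPolynomial.renameEquiv k Equiv.ulift g, (map_ne_zero_iff _ (AlgEquiv.injective _)).2 hg0,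
    fun c hc => good_of_forall fun v hv hmem => ?_⟩
  by_contra! hall
  refine hc ?_
  rw [MvPolynomial.renameEquiv_apply, MvPolynomial.eval_rename]
  let cB : τ → B := fun i => algebraMap k B (c i.down)
  set h := ∑ i, algebraMap k B (c i) * a i with hh
  have hvec : ∀ j, Matrix.mulVec M cB j ∈ v := by
    rintro ⟨_ | l⟩
    · convert hmem using 1
      simp only [Matrix.mulVec, dotProduct, M, Option.elim_none, cB]
      rw [← Equiv.ulift.symm.sum_comp]
      exact Finset.sum_congr rfl fun i _ => mul_comm _ _
    · convert hall (bas.coord l) using 1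
      simp only [Matrix.mulVec, dotProduct, M, Option.elim_some, cB, hh, map_sum]
      rw [← Equiv.ulift.symm.sum_comp]
      refine Finset.sum_congr rfl fun i _ => ?_
      rw [Derivation.leibniz, Derivation.map_algebraMap, smul_zero, add_zero, map_smul, smul_eq_mul, mul_comm]
      rfl
  haveI := hv
  let ev : B →ₐ[k] v.ResidueField := IsScalarTower.toAlgHom k B _
  refine hg (c ∘ Equiv.ulift) v.ResidueField ev (_root_.funext fun j => ?_)
  have h2 := RingHom.map_mulVec ev.toRingHom M cB j
  have h3 : ev.toRingHom (Matrix.mulVec M cB j) = 0 := by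
    show algebraMap B v.ResidueField _ = 0
    exact Ideal.algebraMap_residueField_eq_zero.2 (hvec j)
  rw [h3] at h2
  refine Eq.trans ?_ h2.symm
  refine congrArg (fun w => Matrix.mulVec (M.map ev) w j) (_root_.funext fun i => ?_)
  exact (ev.commutes _).symm

/-- Generators containing one give values and differentials generating on every localization. -/
theorem span_pairs_eq_top {A : Type u} [CommRing A] [Algebra k A] [Algebra A B] [IsScalarTower k A B]
    (S : Submonoid A) [IsLocalization S B] {m : ℕ} (x : Fin m → A)
    (hx : Function.Surjective (MvPolynomial.aeval x : MvPolynomial (Fin m) k →ₐ[k] A)) (i₀ : Fin m) (hi₀ : x i₀ = 1) :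
    Submodule.span B (Set.range fun i => (algebraMap A B (x i), D k B (algebraMap A B (x i)))) =
      (⊤ : Submodule B (B × Ω[B⁄k])) := by
  set P := Submodule.span B (Set.range fun i => (algebraMap A B (x i), D k B (algebraMap A B (x i)))) with hP
  have h1 : ∀ b : B, (b, (0 : Ω[B⁄k])) ∈ P := fun b => by
    have h := P.smul_mem b (Submodule.subset_span ⟨i₀, rfl⟩)
    simpa [hi₀] using h
  have h2 : ∀ i, ((0 : B), D k B (algebraMap A B (x i))) ∈ P := fun i => by
    have hi : (algebraMap A B (x i), D k B (algebraMap A B (x i))) ∈ P := Submodule.subset_span ⟨i, rfl⟩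
    simpa using P.sub_mem hi (h1 (algebraMap A B (x i)))
  have hΩ : (⊤ : Submodule B Ω[B⁄k]) ≤ P.comap (LinearMap.inr B B Ω[B⁄k]) := by
    rw [← span_range_map_derivation_of_isLocalization (R := k) (S := A) (T := B) S, Submodule.span_le]
    rintro _ ⟨a, rfl⟩
    rw [Function.comp_apply, KaehlerDifferential.map_D]
    obtain ⟨q, rfl⟩ := hx a
    induction q using MvPolynomial.induction_on with
    | C c =>
      rw [MvPolynomial.aeval_C, ← IsScalarTower.algebraMap_apply, Derivation.map_algebraMap]
      exact Submodule.zero_mem _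
    | add p q hp hq =>
      rw [map_add, map_add, map_add]
      exact Submodule.add_mem _ hp hq
    | mul_X p i hp =>
      rw [map_mul, map_mul, MvPolynomial.aeval_X, Derivation.leibniz]
      exact Submodule.add_mem _ (Submodule.smul_mem _ _ (h2 i)) (Submodule.smul_mem _ _ hp)
  refine eq_top_iff.2 fun z _ => ?_
  have h := P.add_mem (h1 z.1) (hΩ (Submodule.mem_top (x := z.2)))
  simpa using h

end Groth.Agent.BertiniSec
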